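import Groth.Agent.RegNear6.Basic
import Groth.Agent.RegConormal.Split
import Groth.Agent.CILib.Basic
import Groth.Agent.RegLoc6.Seq
import Groth.Agent.S2837
import Groth.Agent.CIField6.Basic
import Groth.Prelude.Def_CInt

/-!
# Regular immersions near a point, on local rings
-/

set_option autoImplicit false
set_option linter.style.haveILetI false
set_option backward.isDefEq.respectTransparency false
set_option backward.isDefEq.respectTransparency.types false

universe u

open AlgebraicGeometry CategoryTheory RingTheory.Sequence IsLocalRing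

namespace Groth.Agent.RegNear6

/-- For a presentation by a regular local ring, complete intersection means regular kernel. -/
theorem isRegularIdeal_ker_iff {A B : Type u} [CommRing A] [IsRegularLocalRing A] [CommRing B] [IsLocalRing B]
    (π : A →+* B) (hπ : Function.Surjective π) :
    CInt.IsRegularIdeal (RingHom.ker π) ↔ Pi1.IsCompleteIntersection B :=
  ⟨fun ⟨rs, h, e⟩ => (CILib.isCI_iff_regular π hπ).2 ⟨rs, h, e.symm⟩,
    fun h => let ⟨rs, h1, h2⟩ := (CILib.isCI_iff_regular π hπ).1 h; ⟨rs, h1, h2.symm⟩⟩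

/-- A lift of a regular sequence of a quotient by a regular ideal completes it. -/
theorem isRegularIdeal_comap {A B : Type u} [CommRing A] [IsLocalRing A] [CommRing B] [IsLocalRing B]
    (π : A →+* B) (hπ : Function.Surjective π) (hJ : CInt.IsRegularIdeal (RingHom.ker π)) (K : Ideal B)
    (hK : K ≤ maximalIdeal B) (hKreg : CInt.IsRegularIdeal K) : CInt.IsRegularIdeal (K.comap π) := by
  haveI : IsLocalHom π := IsLocalHom.of_surjective _ hπ
  obtain ⟨rs, hrs, hJ'⟩ := hJ
  obtain ⟨ss, hss, rfl⟩ := hKreg
  letI : Algebra A B := π.toAlgebra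
  obtain ⟨g, hg⟩ : ∃ g : B → A, ∀ z, π (g z) = z :=
    ⟨Function.surjInv hπ, Function.surjInv_eq hπ⟩
  have hss' : (ss.map g).map (algebraMap A B) = ss := by
    rw [List.map_map]
    exact (List.map_congr_left fun z _ => hg z).trans (List.map_id ss)
  have hgen : Ideal.ofList (rs ++ ss.map g) = (Ideal.ofList ss).comap π := by
    rw [Ideal.ofList_append, hJ']
    conv_rhs => rw [← hss', ← Ideal.map_ofList]
    rw [show algebraMap A B = π from rfl, Ideal.comap_map_of_surjective' _ hπ, sup_comm]
  refine ⟨rs ++ ss.map g, RegLoc6.isRegular_iff_weakly _ (fun r hr => ?_) ?_, hgen⟩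
  · have : r ∈ (Ideal.ofList ss).comap π := hgen ▸ Ideal.subset_span hr
    exact (IsLocalRing.mem_maximalIdeal r).2 fun hu => (IsLocalRing.mem_maximalIdeal _).1 (hK this) (hu.map π)
  refine (isWeaklyRegular_append_iff A rs (ss.map g)).2 ⟨hrs.1, ?_⟩
  have h1 : IsWeaklyRegular B (ss.map g) :=
    (isWeaklyRegular_map_algebraMap_iff B B (ss.map g)).1 (by rw [hss']; exact hss.1)
  let e : (A ⧸ (Ideal.ofList rs • ⊤ : Submodule A A)) ≃ₗ[A] B :=
    (Submodule.quotEquivOfEq _ (LinearMap.ker (Algebra.linearMap A B)) (by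
      rw [smul_eq_mul, Ideal.mul_top, hJ']
      ext x
      exact Iff.rfl)).trans (LinearMap.quotKerEquivOfSurjective (Algebra.linearMap A B) hπ)
  exact (e.isWeaklyRegular_congr (ss.map g)).2 h1

theorem isRegularIdeal_map_equiv {A B : Type u} [CommRing A] [CommRing B] (e : A ≃+* B) (I : Ideal A)
    (h : CInt.IsRegularIdeal I) : CInt.IsRegularIdeal (I.map e.toRingHom) := by
  obtain ⟨rs, hrs, hI⟩ := h
  have h1 : List.Forall₂ (fun a b => ∀ x : A, e.toAddEquiv (a • x) = b • e.toAddEquiv x) rs
      (rs.map (e : A → B)) :=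
    List.forall₂_map_right_iff.2 (List.forall₂_same.2 fun x _ y => map_mul e x y)
  refine ⟨rs.map (e : A → B), (AddEquiv.isRegular_congr h1).1 hrs, ?_⟩
  rw [← hI, Ideal.map_ofList]
  rfl

variable {X Y : Scheme.{u}} (f : Y ⟶ X) [IsClosedImmersion f] [IsLocallyNoetherian X] (y : Y)

/-- Regular near the image of a point means that the kernel on local rings is a regular ideal. -/
theorem regNear_iff : RegNear f y ↔ CInt.IsRegularIdeal (RingHom.ker (f.stalkMap y).hom) := by
  obtain ⟨_, ⟨D, hD, rfl⟩, hyD, -⟩ :=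
    X.isBasis_affineOpens.exists_subset_of_mem_open (Set.mem_univ (f y)) isOpen_univ
  haveI : IsNoetherianRing Γ(X, D) := IsLocallyNoetherian.component_noetherian ⟨D, hD⟩
  obtain ⟨hD', hDs⟩ := Synt29.surjective_app_of_isClosedImmersion_restrict f D hD
  let I := RingHom.ker (f.app D).hom
  let p := (hD.primeIdealOf ⟨f y, hyD⟩).asIdeal
  let T := Localization.AtPrime p
  letI : Algebra Γ(X, D) (X.presheaf.stalk (f y)) := (X.presheaf.germ D (f y) hyD).hom.toAlgebra
  haveI : IsLocalization.AtPrime (X.presheaf.stalk (f y)) p := hD.isLocalization_stalk ⟨f y, hyD⟩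
  let e : T ≃ₐ[Γ(X, D)] X.presheaf.stalk (f y) := IsLocalization.algEquiv p.primeCompl _ _
  have hle : I ≤ p := KRegLib.ker_app_le_primeIdealOf f hD hD' y hyD
  rw [RegConormal.ker_stalkMap_eq_map f y ⟨D, hD⟩ hyD inferInstance, regNear_iff_kReg f hD hyD]
  constructor
  · intro h
    obtain ⟨g, hg, rs, hrs, hI⟩ := KRegLib.exists_isRegular_of_kReg I p hle h
    let φ : Localization.Away g →+* X.presheaf.stalk (f y) := IsLocalization.Away.lift g
      (IsLocalization.map_units (X.presheaf.stalk (f y)) (⟨g, hg⟩ : p.primeCompl))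
    letI : Algebra (Localization.Away g) (X.presheaf.stalk (f y)) := φ.toAlgebra
    haveI : IsScalarTower Γ(X, D) (Localization.Away g) (X.presheaf.stalk (f y)) :=
      IsScalarTower.of_algebraMap_eq fun b => (IsLocalization.Away.lift_eq g _ b).symm
    haveI : Module.Flat Γ(X, D) (X.presheaf.stalk (f y)) := IsLocalization.flat _ p.primeCompl
    haveI : Module.Flat (Localization.Away g) (X.presheaf.stalk (f y)) :=
      (Module.flat_iff_of_isLocalization (R := Γ(X, D)) (Localization.Away g) (Submonoid.powers g)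
        (X.presheaf.stalk (f y))).2 inferInstance
    have hmap : I.map (algebraMap Γ(X, D) (X.presheaf.stalk (f y))) = Ideal.ofList (rs.map φ) := by
      rw [IsScalarTower.algebraMap_eq Γ(X, D) (Localization.Away g), ← Ideal.map_map, ← hI, Ideal.map_ofList]
      rfl
    refine ⟨rs.map φ, RegLoc6.isRegular_iff_weakly _ (fun r hr => ?_)
      (hrs.toIsWeaklyRegular.of_flat (S := X.presheaf.stalk (f y))), hmap.symm⟩
    rw [← IsLocalization.AtPrime.map_eq_maximalIdeal p (X.presheaf.stalk (f y))]
    exact Ideal.map_mono hle (show r ∈ I.map _ by rw [hmap]; exact Ideal.subset_span hr)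
  · rintro ⟨rs, hrs, hI⟩
    have hreg : IsWeaklyRegular T (rs.map e.symm) :=
      (AddEquiv.isWeaklyRegular_congr (e := e.symm.toAddEquiv) (as := rs) (bs := rs.map e.symm)
        (List.forall₂_map_right_iff.2 (List.forall₂_same.2 fun x _ z => map_mul e.symm x z))).1 hrs.1
    have hI' : Ideal.ofList (rs.map e.symm) = I.map (algebraMap Γ(X, D) T) := by
      refine ((Ideal.map_ofList e.symm.toRingEquiv.toRingHom rs).symm).trans ?_
      refine (congrArg (Ideal.map e.symm.toRingEquiv.toRingHom) hI).trans ?_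
      rw [Ideal.map_map]
      congr 1
      exact RingHom.ext fun a => e.symm.commutes a
    refine KRegLib.kReg_of_atPrime I p hle (fun i => (rs.map e.symm).get i) (by rw [List.ofFn_get]; exact hreg) ?_
    rw [← hI', Ideal.ofList]
    congr 1
    ext r
    simp [List.mem_iff_get]
    exact Iff.rfl

theorem ker_stalkMap_le (f : Y ⟶ X) (y : Y) : RingHom.ker (f.stalkMap y).hom ≤ maximalIdeal (X.presheaf.stalk (f y)) :=
  IsLocalRing.le_maximalIdeal (RingHom.ker_ne_top _)

end Groth.Agent.RegNear6
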