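import Groth.Agent.KRegLib.Kinds
import Groth.Agent.KRegLib.Closed
import Groth.Prelude.Def_Mor2

/-!
# Closed immersions regular near a point
-/

set_option autoImplicit false
set_option linter.style.haveILetI false
set_option backward.isDefEq.respectTransparency false
set_option backward.isDefEq.respectTransparency.types false

universe u

open AlgebraicGeometry CategoryTheory RingTheory.Sequence IsLocalRing

namespace Groth.Agent.RegNear6

open KRegLib

variable {X Y : Scheme.{u}} (f : Y ⟶ X) [IsClosedImmersion f]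

/-- A closed immersion is regular near the image of a point. -/
def RegNear (y : Y) : Prop := ∃ V : X.Opens, f y ∈ V ∧ Mor2.IsRegularClosedImmersion (f ∣_ V)

theorem ker_restrict_app (V : X.Opens) (U : V.toScheme.Opens) :
    RingHom.ker ((f ∣_ V).app U).hom = RingHom.ker (f.app (V.ι ''ᵁ U)).hom := by
  rw [morphismRestrict_app, CommRingCat.hom_comp]
  exact RingHom.ker_comp_of_injective _ (ConcreteCategory.bijective_of_isIso _).1

theorem ker_ideal_restrict (V : X.Opens) {U : V.toScheme.Opens} (hU : IsAffineOpen U) :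
    (f ∣_ V).ker.ideal ⟨U, hU⟩ = RingHom.ker (f.app (V.ι ''ᵁ U)).hom := by
  rw [Scheme.Hom.ker_apply]
  exact ker_restrict_app f V U

variable [IsLocallyNoetherian X] {y : Y} {D : X.Opens} (hD : IsAffineOpen D) (hyD : f y ∈ D)

theorem regNear_iff_kReg :
    RegNear f y ↔ KReg (RingHom.ker (f.app D).hom) (hD.primeIdealOf ⟨f y, hyD⟩).asIdeal := by
  haveI : IsNoetherianRing Γ(X, D) := IsLocallyNoetherian.component_noetherian ⟨D, hD⟩
  obtain ⟨hD', hDs⟩ := Synt29.surjective_app_of_isClosedImmersion_restrict f D hD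
  constructor
  · rintro ⟨V, hyV, -, hV⟩
    obtain ⟨U, hU, hyU, rs, hrs, hker⟩ := hV ⟨y, hyV⟩
    rw [ker_ideal_restrict f V hU] at hker
    have hyU' : f y ∈ V.ι ''ᵁ U := ⟨_, hyU, morphismRestrict_base_coe f V ⟨y, hyV⟩⟩
    exact kReg_of_regImmAt f y ⟨⟨_, hU.image_of_isOpenImmersion V.ι⟩, hyU', inferInstance, rs,
      seq_of_isRegular _ rs hrs, hker⟩ hD hyD
  · intro h
    obtain ⟨g, hg, rs, hrs, hrsI⟩ := exists_isRegular_of_kReg _ _ (ker_app_le_primeIdealOf f hD hD' y hyD) h
    letI : Algebra Γ(X, D) Γ(X, X.basicOpen g) := (X.presheaf.map (homOfLE (X.basicOpen_le g)).op).hom.toAlgebra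
    haveI : IsLocalization.Away g Γ(X, X.basicOpen g) := hD.isLocalization_basicOpen g
    let e : Localization.Away g ≃ₐ[Γ(X, D)] Γ(X, X.basicOpen g) :=
      IsLocalization.algEquiv (Submonoid.powers g) _ _
    have hyg : f y ∈ X.basicOpen g := by
      rw [← hD.fromSpec_image_basicOpen g]
      exact ⟨hD.primeIdealOf ⟨f y, hyD⟩, hg, hD.fromSpec_primeIdealOf _⟩
    refine ⟨X.basicOpen g, hyg, inferInstance, fun z => ?_⟩
    have himg : (X.basicOpen g).ι ''ᵁ ((X.basicOpen g).ι ⁻¹ᵁ X.basicOpen g) = X.basicOpen g := by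
      simp
    have hU : IsAffineOpen ((X.basicOpen g).ι ⁻¹ᵁ X.basicOpen g) :=
      ((X.basicOpen g).ι.isAffineOpen_iff_of_isOpenImmersion).1 (by rw [himg]; exact hD.basicOpen g)
    have key : ∀ (O : X.Opens), O = X.basicOpen g →
        ∃ rs' : List Γ(X, O), IsRegular Γ(X, O) rs' ∧ RingHom.ker (f.app O).hom = Ideal.ofList rs' := by
      rintro O rfl
      refine ⟨rs.map e, ?_, ?_⟩
      · refine (AddEquiv.isRegular_congr (e := e.toRingEquiv.toAddEquiv) (as := rs) (bs := rs.map e) ?_).1 hrs
        exact List.forall₂_map_right_iff.2 (List.forall₂_same.2 fun x _ y => map_mul e x y)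
      · refine Eq.trans (app_basicOpen_props f hD hD' hDs g).2.2 ?_
        have h4 : (Ideal.ofList rs).map e.toRingEquiv.toRingHom = Ideal.ofList (rs.map e) := Ideal.map_ofList _ _
        rw [← h4, hrsI, Ideal.map_map]
        congr 1
        exact (RingHom.ext fun x => (e.commutes x)).symm
    obtain ⟨rs', hrs', hker⟩ := key _ himg
    refine ⟨_, hU, ?_, rs', hrs', (ker_ideal_restrict f _ hU).trans hker⟩
    exact ((f ∣_ X.basicOpen g) z).2

end Groth.Agent.RegNear6
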